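import Mathlib

/-!
# Universally open maps: generizations keeping algebraically independent functions
-/

set_option autoImplicit false

universe u

open TensorProduct

attribute [local instance] MvPolynomial.algebraMvPolynomial

namespace Groth.Agent.CondTLib

/-- Over a residue field: independence survives an extension of scalars, at some prime. -/
theorem exists_prime_independent (k₀ kv L : Type u) [Field k₀] [Field kv] [Field L] [Algebra k₀ kv]
    [Algebra k₀ L] {t : ℕ} (b : Fin t → L) (hb : AlgebraicIndependent k₀ b) :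
    ∃ (D : Type u) (_ : CommRing D) (_ : IsDomain D) (f : kv →+* D) (g : L →+* D),
      f.comp (algebraMap k₀ kv) = g.comp (algebraMap k₀ L) ∧
      ∀ F : MvPolynomial (Fin t) kv, MvPolynomial.eval₂ f (fun i => g (b i)) F = 0 → F = 0 := by
  let a : MvPolynomial (Fin t) kv →ₐ[kv] kv ⊗[k₀] L := MvPolynomial.aeval fun i => (1 : kv) ⊗ₜ b i
  have ha : Function.Injective a := by
    have h1 : Function.Injective (Algebra.TensorProduct.map (AlgHom.id kv kv)
        (MvPolynomial.aeval b : MvPolynomial (Fin t) k₀ →ₐ[k₀] L)) :=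
      Module.Flat.lTensor_preserves_injective_linearMap
        (MvPolynomial.aeval b : MvPolynomial (Fin t) k₀ →ₐ[k₀] L).toLinearMap hb
    have h2 : a = (Algebra.TensorProduct.map (AlgHom.id kv kv)
        (MvPolynomial.aeval b : MvPolynomial (Fin t) k₀ →ₐ[k₀] L)).comp
          (MvPolynomial.algebraTensorAlgEquiv k₀ kv).symm.toAlgHom := by
      refine MvPolynomial.algHom_ext fun i => ?_
      simp [a]
    rw [h2]
    exact h1.comp (MvPolynomial.algebraTensorAlgEquiv k₀ kv).symm.injective
  obtain ⟨Q, hQ, hQa⟩ := Ideal.exists_comap_eq_of_mem_minimalPrimes_of_injective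
    (f := a.toRingHom) ha ⊥ ⟨⟨Ideal.isPrime_bot, le_rfl⟩, fun _ _ _ => bot_le⟩
  haveI := hQ
  refine ⟨(kv ⊗[k₀] L) ⧸ Q, inferInstance, inferInstance,
    (Ideal.Quotient.mk Q).comp Algebra.TensorProduct.includeLeftRingHom,
    (Ideal.Quotient.mk Q).comp
      (Algebra.TensorProduct.includeRight : L →ₐ[k₀] kv ⊗[k₀] L).toRingHom, ?_, fun F hF => ?_⟩
  · ext r
    exact congrArg (Ideal.Quotient.mk Q) (Algebra.TensorProduct.tmul_one_eq_one_tmul (A := kv) (B := L) r)
  · have h : F ∈ Q.comap a.toRingHom := by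
      rw [Ideal.mem_comap, ← Ideal.Quotient.eq_zero_iff_mem]
      have e : (Ideal.Quotient.mk Q).comp a.toRingHom = MvPolynomial.eval₂Hom
          ((Ideal.Quotient.mk Q).comp Algebra.TensorProduct.includeLeftRingHom)
          (fun i => Ideal.Quotient.mk Q ((1 : kv) ⊗ₜ b i)) := by
        refine MvPolynomial.ringHom_ext (fun r => ?_) fun i => ?_ <;> simp [a]
      exact (RingHom.congr_fun e F).trans hF
    rw [hQa] at h
    exact h

variable {A B : Type u} [CommRing A] [CommRing B] [Algebra A B]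

/-- Algebraic independence of functions modulo a prime, spelt with coefficients. -/
def IndepAt (q : Ideal B) {t : ℕ} (b : Fin t → B) : Prop :=
  ∀ F : MvPolynomial (Fin t) A, MvPolynomial.aeval b F ∈ q → ∀ m, F.coeff m ∈ q.comap (algebraMap A B)

theorem algebraicIndependent_residue (q : Ideal B) [q.IsPrime] (p : Ideal A) [p.IsPrime]
    (hp : q.comap (algebraMap A B) = p) [Algebra p.ResidueField q.ResidueField]
    (hcompat : ∀ a : A, algebraMap p.ResidueField q.ResidueField (algebraMap A p.ResidueField a) =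
      algebraMap B q.ResidueField (algebraMap A B a))
    {t : ℕ} (b : Fin t → B) (hb : IndepAt (A := A) q b) :
    AlgebraicIndependent p.ResidueField fun i => algebraMap B q.ResidueField (b i) := by
  rw [algebraicIndependent_iff]
  intro F hF
  obtain ⟨⟨G, S, hS⟩, hG⟩ := IsLocalization.surj
    ((nonZeroDivisors (A ⧸ p)).map (MvPolynomial.C : (A ⧸ p) →+* MvPolynomial (Fin t) (A ⧸ p))) F
  obtain ⟨G₀, rfl⟩ := MvPolynomial.map_surjective (Ideal.Quotient.mk p) Ideal.Quotient.mk_surjective G
  have hG0 : MvPolynomial.aeval b G₀ ∈ q := by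
    have h1 := congrArg (MvPolynomial.aeval fun i => algebraMap B q.ResidueField (b i)) hG
    rw [map_mul, hF, zero_mul] at h1
    rw [← Ideal.algebraMap_residueField_eq_zero (I := q)]
    refine Eq.trans ?_ h1.symm
    have e : ((MvPolynomial.aeval fun i => algebraMap B q.ResidueField (b i) :
          MvPolynomial (Fin t) p.ResidueField →ₐ[p.ResidueField] q.ResidueField).toRingHom.comp
          ((algebraMap (MvPolynomial (Fin t) (A ⧸ p)) (MvPolynomial (Fin t) p.ResidueField)).comp
            (MvPolynomial.map (Ideal.Quotient.mk p)))) =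
        (algebraMap B q.ResidueField).comp (MvPolynomial.aeval b : MvPolynomial (Fin t) A →ₐ[A] B).toRingHom := by
      refine MvPolynomial.ringHom_ext (fun a => ?_) fun i => ?_
      · simp only [RingHom.comp_apply, MvPolynomial.algebraMap_def, MvPolynomial.map_C, AlgHom.toRingHom_eq_coe,
          RingHom.coe_coe, MvPolynomial.aeval_C]
        exact (congrArg _ (IsScalarTower.algebraMap_apply A (A ⧸ p) p.ResidueField a)).symm.trans (hcompat a)
      · simp only [RingHom.comp_apply, MvPolynomial.algebraMap_def, MvPolynomial.map_X, AlgHom.toRingHom_eq_coe,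
          RingHom.coe_coe, MvPolynomial.aeval_X]
    exact (RingHom.congr_fun e G₀).symm
  have h0 : MvPolynomial.map (Ideal.Quotient.mk p) G₀ = 0 := by
    ext m
    rw [MvPolynomial.coeff_map, MvPolynomial.coeff_zero, Ideal.Quotient.eq_zero_iff_mem, ← hp]
    exact hb G₀ hG0 m
  obtain ⟨s, hs, rfl⟩ := Submonoid.mem_map.1 hS
  rw [h0, map_zero] at hG
  refine (mul_eq_zero.1 hG).resolve_right ?_
  rw [MvPolynomial.algebraMap_def, MvPolynomial.map_C, MvPolynomial.C_eq_zero]
  exact fun h => nonZeroDivisors.ne_zero hs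
    (IsFractionRing.injective (A ⧸ p) p.ResidueField (h.trans (map_zero _).symm))

/-- The valuative generization. -/
theorem exists_generization_indep
    (hopen : ∀ (V : Type u) [CommRing V] [Algebra A V],
      IsOpenMap (PrimeSpectrum.comap (algebraMap V (V ⊗[A] B))))
    (q : Ideal B) [q.IsPrime] (p₀ : Ideal A) [p₀.IsPrime] (hp₀ : p₀ ≤ q.comap (algebraMap A B))
    {t : ℕ} (b : Fin t → B) (hb : IndepAt (A := A) q b) :
    ∃ P : Ideal B, P.IsPrime ∧ P ≤ q ∧ P.comap (algebraMap A B) = p₀ ∧ IndepAt (A := A) P b := by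
  classical
  let K := FractionRing (A ⧸ p₀)
  let p : Ideal A := q.comap (algebraMap A B)
  haveI : p.IsPrime := Ideal.IsPrime.comap _
  let R : Subring K := (algebraMap (A ⧸ p₀) K).range
  let e : (A ⧸ p₀) ≃+* R := RingEquiv.ofBijective (algebraMap (A ⧸ p₀) K).rangeRestrict
    ⟨fun x y h => IsFractionRing.injective (A ⧸ p₀) K (congrArg Subtype.val h),
      RingHom.rangeRestrict_surjective _⟩
  let P₁ : Ideal R := (p.map (Ideal.Quotient.mk p₀)).comap (e.symm : R →+* A ⧸ p₀)
  haveI : (p.map (Ideal.Quotient.mk p₀)).IsPrime :=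
    Ideal.map_isPrime_of_surjective Ideal.Quotient.mk_surjective (by rw [Ideal.mk_ker]; exact hp₀)
  haveI : P₁.IsPrime := Ideal.IsPrime.comap _
  obtain ⟨V, hV⟩ := (LocalSubring.ofPrime R P₁).exists_le_valuationSubring
  let φ : A →+* V := (Subring.inclusion ((LocalSubring.le_ofPrime R P₁).trans hV.1)).comp
    ((e : (A ⧸ p₀) →+* R).comp (Ideal.Quotient.mk p₀))
  have hkerφ : RingHom.ker φ = p₀ := by
    ext a
    rw [RingHom.mem_ker, ← Ideal.Quotient.eq_zero_iff_mem, ← map_eq_zero_iff e e.injective]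
    exact ⟨fun h => Subtype.ext (congrArg (fun v : V => (v : K)) h),
      fun h => Subtype.ext (congrArg (fun v : R => (v : K)) h)⟩
  have hmφ : ∀ a : A, φ a ∈ IsLocalRing.maximalIdeal V ↔ a ∈ p := by
    intro a
    haveI := hV.2
    let loc : R →+* (LocalSubring.ofPrime R P₁).toSubring :=
      Subring.inclusion (LocalSubring.le_ofPrime R P₁)
    have h1 : φ a = Subring.inclusion hV.1 (loc (e (Ideal.Quotient.mk p₀ a))) := Subtype.ext rfl
    rw [h1]
    refine (IsLocalRing.mem_maximalIdeal _).trans ((iff_of_eq (congrArg Not (propext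
      (isUnit_map_iff (Subring.inclusion hV.1) _)))).trans ?_)
    show ¬ IsUnit (algebraMap R (LocalSubring.ofPrime R P₁).toSubring (e (Ideal.Quotient.mk p₀ a))) ↔ _
    rw [IsLocalization.AtPrime.isUnit_to_map_iff (LocalSubring.ofPrime R P₁).toSubring P₁]
    show ¬ (e (Ideal.Quotient.mk p₀ a) ∉ P₁) ↔ _
    rw [not_not, Ideal.mem_comap, RingEquiv.coe_toRingHom, RingEquiv.symm_apply_apply]
    rw [← Ideal.mem_comap, Ideal.comap_map_of_surjective _ Ideal.Quotient.mk_surjective,
      ← RingHom.ker_eq_comap_bot, Ideal.mk_ker, sup_eq_left.2 hp₀]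
  letI : Algebra A V := φ.toAlgebra
  let kv := IsLocalRing.ResidueField V
  let pk : p.ResidueField →+* kv := Ideal.ResidueField.lift p ((IsLocalRing.residue V).comp φ)
    (fun a ha => by rw [RingHom.mem_ker, RingHom.comp_apply, IsLocalRing.residue_eq_zero_iff]; exact (hmφ a).2 ha)
    (fun a ha => by
      refine isUnit_iff_ne_zero.2 ?_
      rw [RingHom.comp_apply, ne_eq, IsLocalRing.residue_eq_zero_iff, hmφ]
      exact ha)
  letI : Algebra p.ResidueField kv := pk.toAlgebra
  letI : Algebra p.ResidueField q.ResidueField :=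
    (Ideal.ResidueField.map p q (algebraMap A B) rfl).toAlgebra
  obtain ⟨D, _, _, f, g, hfg, hD⟩ := exists_prime_independent p.ResidueField kv q.ResidueField _
    (algebraicIndependent_residue q p rfl (fun a => Ideal.ResidueField.map_algebraMap p q (algebraMap A B) rfl a) b hb)
  let fV : V →+* D := f.comp (IsLocalRing.residue V)
  let gB : B →+* D := g.comp (algebraMap B q.ResidueField)
  have hc : ∀ a : A, fV (algebraMap A V a) = gB (algebraMap A B a) := by
    intro a
    show f (IsLocalRing.residue V (φ a)) = g (algebraMap B q.ResidueField (algebraMap A B a))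
    rw [← Ideal.ResidueField.map_algebraMap p q (algebraMap A B) rfl a]
    refine Eq.trans ?_ (RingHom.congr_fun hfg (algebraMap A p.ResidueField a))
    exact congrArg f (show _ = pk (algebraMap A p.ResidueField a) from
      (Ideal.ResidueField.lift_algebraMap p ((IsLocalRing.residue V).comp φ) _ _ a).symm)
  letI : Algebra A D := (fV.comp (algebraMap A V)).toAlgebra
  let fA : V →ₐ[A] D := { fV with commutes' := fun a => rfl }
  let gA : B →ₐ[A] D := { gB with commutes' := fun a => (hc a).symm }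
  let π : V ⊗[A] B →ₐ[A] D := Algebra.TensorProduct.productMap fA gA
  have hπV : ∀ v, π (algebraMap V (V ⊗[A] B) v) = f (IsLocalRing.residue V v) := fun v =>
    (Algebra.TensorProduct.productMap_apply_tmul fA gA v 1).trans (by rw [map_one, mul_one]; rfl)
  have hπB : ∀ x, π ((1 : V) ⊗ₜ x) = g (algebraMap B q.ResidueField x) := fun x =>
    (Algebra.TensorProduct.productMap_apply_tmul fA gA 1 x).trans (by rw [map_one, one_mul]; rfl)
  let q' : Ideal (V ⊗[A] B) := RingHom.ker π.toRingHom
  haveI : q'.IsPrime := RingHom.ker_isPrime _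
  let S : Submonoid (V ⊗[A] B) := q'.primeCompl ⊔ (nonZeroDivisors V).map (algebraMap V (V ⊗[A] B))
  have hS : Disjoint ((⊥ : Ideal (V ⊗[A] B)) : Set (V ⊗[A] B)) (S : Set (V ⊗[A] B)) := by
    rw [Set.disjoint_left]
    rintro x (rfl : x = 0) hx
    obtain ⟨s, hs, _, ⟨v, hv, rfl⟩, hsv⟩ := Submonoid.mem_sup.1 hx
    have hm : PrimeSpectrum.comap (algebraMap V (V ⊗[A] B)) ⟨q', ‹_›⟩ ∈
        PrimeSpectrum.comap (algebraMap V (V ⊗[A] B)) '' (PrimeSpectrum.basicOpen s : Set _) :=
      ⟨_, hs, rfl⟩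
    obtain ⟨P, hPs, hP⟩ : (⟨⊥, Ideal.isPrime_bot⟩ : PrimeSpectrum V) ∈
        PrimeSpectrum.comap (algebraMap V (V ⊗[A] B)) '' (PrimeSpectrum.basicOpen s : Set _) :=
      ((PrimeSpectrum.le_iff_specializes _ _).1 bot_le).mem_open
        ((hopen V) _ (PrimeSpectrum.basicOpen s).isOpen) hm
    have h1 : algebraMap V (V ⊗[A] B) v ∈ P.asIdeal :=
      (P.isPrime.mem_or_mem (by rw [hsv]; exact P.asIdeal.zero_mem)).resolve_left hPs
    have h2 : v ∈ (⊥ : Ideal V) := (congrArg PrimeSpectrum.asIdeal hP).le (Ideal.mem_comap.2 h1)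
    exact nonZeroDivisors.ne_zero hv (Ideal.mem_bot.1 h2)
  obtain ⟨P, hP, -, hPS⟩ := Ideal.exists_le_prime_disjoint _ S hS
  haveI := hP
  have hPq : P ≤ q' := fun x hx => by
    by_contra h
    exact Set.disjoint_left.1 hPS hx (Submonoid.mem_sup_left h)
  have hP0 : ∀ v : V, algebraMap V (V ⊗[A] B) v ∈ P → v = 0 := fun v hv => by
    by_contra h
    exact Set.disjoint_left.1 hPS hv
      (Submonoid.mem_sup_right ⟨v, mem_nonZeroDivisors_of_ne_zero h, rfl⟩)
  let P₀ : Ideal B := P.comap (Algebra.TensorProduct.includeRight : B →ₐ[A] V ⊗[A] B).toRingHom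
  have hP₀p : P₀.comap (algebraMap A B) = p₀ := by
    ext a
    rw [← hkerφ, RingHom.mem_ker]
    show (1 : V) ⊗ₜ[A] algebraMap A B a ∈ P ↔ _
    rw [← Algebra.TensorProduct.tmul_one_eq_one_tmul]
    exact ⟨fun h => hP0 _ h, fun h => by rw [show algebraMap A V a = φ a from rfl, h, TensorProduct.zero_tmul]; exact P.zero_mem⟩
  refine ⟨P₀, Ideal.IsPrime.comap _, fun x hx => ?_, hP₀p, fun F hF m => ?_⟩
  · have h1 : π ((1 : V) ⊗ₜ x) = 0 := hPq hx
    rw [hπB, map_eq_zero, Ideal.algebraMap_residueField_eq_zero] at h1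
    exact h1
  rw [hP₀p, ← hkerφ, RingHom.mem_ker]
  let bV : Fin t → V ⊗[A] B := fun i => (1 : V) ⊗ₜ b i
  have hF' : MvPolynomial.aeval bV (MvPolynomial.map φ F) ∈ P := by
    have : MvPolynomial.aeval bV (MvPolynomial.map φ F) =
        (Algebra.TensorProduct.includeRight : B →ₐ[A] V ⊗[A] B) (MvPolynomial.aeval b F) := by
      rw [MvPolynomial.comp_aeval_apply]
      exact MvPolynomial.aeval_map_algebraMap V bV F
    rw [this]; exact hF
  by_contra hm
  let G := MvPolynomial.map φ F
  have hGm : G.coeff m ≠ 0 := by rwa [MvPolynomial.coeff_map]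
  have hne : G.support.Nonempty := ⟨m, MvPolynomial.mem_support_iff.2 hGm⟩
  obtain ⟨m₀, hm₀, hdvd⟩ : ∃ m₀ ∈ G.support, ∀ n ∈ G.support, G.coeff m₀ ∣ G.coeff n := by
    have key : ∀ T : Finset (Fin t →₀ ℕ), T.Nonempty → ∃ m₀ ∈ T, ∀ n ∈ T, G.coeff m₀ ∣ G.coeff n := by
      intro T hT
      induction hT using Finset.Nonempty.cons_induction with
      | singleton a => exact ⟨a, Finset.mem_singleton_self a, fun n hn => by rw [Finset.mem_singleton.1 hn]⟩
      | cons a s ha hs ih =>
        obtain ⟨c, hc, hc'⟩ := ih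
        rcases ValuationRing.dvd_total (G.coeff a) (G.coeff c) with h | h
        · exact ⟨a, Finset.mem_cons_self a s, fun n hn => (Finset.mem_cons.1 hn).elim (fun e => e ▸ dvd_rfl) fun hn => h.trans (hc' n hn)⟩
        · exact ⟨c, Finset.mem_cons_of_mem hc, fun n hn => (Finset.mem_cons.1 hn).elim (fun e => e ▸ h) (hc' n)⟩
    exact key _ hne
  choose! w hw using hdvd
  let G₁ : MvPolynomial (Fin t) V := ∑ n ∈ G.support, MvPolynomial.monomial n (w n)
  have hG : G = MvPolynomial.C (G.coeff m₀) * G₁ := by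
    conv_lhs => rw [G.as_sum]
    rw [Finset.mul_sum]
    exact Finset.sum_congr rfl fun n hn => by rw [MvPolynomial.C_mul_monomial, ← hw n hn]
  have hG₁ : MvPolynomial.aeval bV G₁ ∈ P := by
    have h1 : MvPolynomial.aeval bV G ∈ P := hF'
    rw [hG, map_mul, MvPolynomial.aeval_C] at h1
    exact (hP.mem_or_mem h1).resolve_left fun h => (MvPolynomial.mem_support_iff.1 hm₀) (hP0 _ h)
  have hG₁0 : MvPolynomial.map (IsLocalRing.residue V) G₁ = 0 := by
    refine hD _ ?_
    have h1 : π (MvPolynomial.aeval bV G₁) = 0 := hPq hG₁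
    refine Eq.trans ?_ h1
    rw [MvPolynomial.eval₂_map]
    have e : π.toRingHom.comp (MvPolynomial.aeval bV).toRingHom =
        MvPolynomial.eval₂Hom (f.comp (IsLocalRing.residue V))
          (fun i => g (algebraMap B q.ResidueField (b i))) := by
      refine MvPolynomial.ringHom_ext (fun v => ?_) fun i => ?_
      · simpa using hπV v
      · simpa [bV] using hπB (b i)
    exact (RingHom.congr_fun e G₁).symm
  have h1 : IsLocalRing.residue V (w m₀) = 0 := by
    have := congrArg (MvPolynomial.coeff m₀) hG₁0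
    rw [MvPolynomial.coeff_map, MvPolynomial.coeff_zero, MvPolynomial.coeff_sum] at this
    simpa [MvPolynomial.coeff_monomial, Finset.sum_ite_eq', hm₀] using this
  have h2 : w m₀ = 1 :=
    mul_left_cancel₀ (MvPolynomial.mem_support_iff.1 hm₀) (by rw [← hw m₀ hm₀, mul_one])
  rw [h2, map_one] at h1
  exact one_ne_zero h1

end Groth.Agent.CondTLib
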