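import Groth.Agent.CondTLib.Lift
import Groth.Agent.OpenDim.Components
import Groth.Agent.FlatDim.Trdeg
import Groth.Agent.FibreDepth.FibreDim
import Groth.Agent.ChevalleyOpen.Comps
import Groth.Prelude.Def_EGA43

/-!
# Components equidimensional at a point
-/

set_option autoImplicit false
set_option linter.style.haveILetI false
set_option backward.isDefEq.respectTransparency false
set_option backward.defeqAttrib.useBackward true

open CategoryTheory CategoryTheory.Limits AlgebraicGeometry Topology TopologicalSpace TensorProduct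

universe u

namespace Groth.Agent.CondTLib

open Groth.Agent.DimFormulaLib Groth.Agent.OpenDim

variable {X S : Scheme.{u}} (f : X ⟶ S) [LocallyOfFiniteType f]

theorem trd_le_fibreDimAt_of_generization {ξ x : X} (h : ξ ⤳ x) :
    (trd f ξ : WithBot ℕ∞) ≤ FlatMor.fibreDimAt f x := by
  obtain ⟨w, -, hwx, hfw, hle⟩ := exists_trd_ge f h
  exact le_trans (by exact_mod_cast hle) (trd_le_fibreDimAt f hfw hwx)

theorem trd_ι' {U : X.Opens} (w : U) : trd (U.ι ≫ f) w = trd f (U.ι w) := by
  have h := OpenDim.resTrdegAt_ι' f w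
  rw [resTrdegAt_eq_trd, resTrdegAt_eq_trd] at h
  exact_mod_cast h

omit [LocallyOfFiniteType f] in
theorem val_specializes {y : S} {v w : f.fiber y} :
    (f.fiberHomeo y v).1 ⤳ (f.fiberHomeo y w).1 ↔ v ⤳ w :=
  ((IsEmbedding.subtypeVal.comp (f.fiberHomeo y).isEmbedding).isInducing).specializes_iff

/-- Fibre components through their generic points, on any base. -/
theorem component_of_maxInFibre {u : X} (hu : MaxInFibre f u) :
    closure {f.asFiber u} ∈ irreducibleComponents ↥(f.fiber (f u)) ∧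
      topologicalKrullDim ↥(closure ({f.asFiber u} : Set ↥(f.fiber (f u)))) = (trd f u : WithBot ℕ∞) := by
  haveI : LocallyOfFiniteType (f.fiberToSpecResidueField (f u)) :=
    MorphismProperty.pullback_snd _ _ ‹LocallyOfFiniteType f›
  have hu' : (f.fiberHomeo (f u) (f.asFiber u)).1 = u := f.fiberι_asFiber u
  have hmax : ∀ w, w ⤳ f.asFiber u → w = f.asFiber u := fun w hw => by
    refine (f.fiberHomeo (f u)).injective (Subtype.ext ?_)
    rw [hu']
    have hs := (val_specializes f).2 hw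
    rw [hu'] at hs
    exact hu _ (f.fiberHomeo (f u) w).2 hs
  exact ⟨closure_mem_irreducibleComponents hmax,
    (ChevalleyOpen.localDim_eq_of_max (k := S.residueField (f u)) (f.fiberToSpecResidueField (f u))
      (f.asFiber u) hmax).symm.trans (fibreDimAt_eq_trd f hu)⟩

theorem point_of_component {y : S} {Z : Set ↥(f.fiber y)} (hZ : Z ∈ irreducibleComponents ↥(f.fiber y)) :
    ∃ u, f u = y ∧ MaxInFibre f u ∧ topologicalKrullDim ↥Z = (trd f u : WithBot ℕ∞) := by
  obtain ⟨z, rfl, hmax⟩ := exists_generic_of_mem_irreducibleComponents hZ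
  have hu : f (f.fiberHomeo y z).1 = y := (f.fiberHomeo y z).2
  have hum : MaxInFibre f (f.fiberHomeo y z).1 := fun x' hx' hs => by
    obtain ⟨w, hw⟩ := (f.fiberHomeo y).surjective ⟨x', hx'.trans hu⟩
    have h1 : (f.fiberHomeo y w).1 = x' := congrArg Subtype.val hw
    rw [← h1] at hs ⊢
    rw [hmax w ((val_specializes f).1 hs)]
  refine ⟨_, hu, hum, ?_⟩
  rw [← (component_of_maxInFibre f hum).2]
  generalize hue : (f.fiberHomeo y z).1 = u at hu
  subst hu
  have hz : z = f.asFiber u := (f.fiberHomeo (f u)).injective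
    (Subtype.ext (hue.trans (f.fiberι_asFiber u).symm))
  rw [hz]

/-- What equidimensionality says, on any base. -/
theorem generic_of_equidim {x : X} (h : EGA43.IsEquidimAt f x) :
    ∃ (e : ℕ) (U : X.Opens), x ∈ U ∧ (∀ ξ ∈ U, IsMaxPt ξ → IsMaxPt (f ξ) ∧ trd f ξ = e) ∧
      (∀ w ∈ U, MaxInFibre f w → trd f w = e) ∧ FlatMor.fibreDimAt f x = (e : WithBot ℕ∞) := by
  obtain ⟨e, U, hxU, hcomp, hfib⟩ := h
  have hw : ∀ w ∈ U, MaxInFibre f w → trd f w = e := fun w hwU hwmax => by
    let v : U := ⟨w, hwU⟩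
    obtain ⟨hZ, hdim⟩ := component_of_maxInFibre (U.ι ≫ f) (u := v)
      (fun x' hx' hs => U.ι.isOpenEmbedding.injective (hwmax _ hx' (hs.map U.ι.continuous)))
    have := hdim.symm.trans (hfib v _ hZ)
    rw [trd_ι'] at this
    exact_mod_cast this
  refine ⟨e, U, hxU, fun ξ hξU hξ => ⟨?_, hw ξ hξU fun x' _ hs => hξ x' hs⟩, hw, ?_⟩
  · let v : U := ⟨ξ, hξU⟩
    have hv : ∀ v' : U, v' ⤳ v → v' = v := fun v' hv' =>
      U.ι.isOpenEmbedding.injective (hξ _ (hv'.map U.ι.continuous))
    obtain ⟨W, hW, -, hcl⟩ := hcomp (closure ({v} : Set U.toScheme))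
      (closure_mem_irreducibleComponents (F := U.toScheme) hv)
    rw [closure_image_closure (U.ι ≫ f).continuous, Set.image_singleton] at hcl
    replace hcl : closure ({f ξ} : Set S) = W := hcl
    exact isMaxPt_of_closure_mem (hcl.symm ▸ hW)
  · obtain ⟨ζ, hfζ, hζx, hmax, hdim⟩ := exists_maxInFibre_fibreDimAt f x
    rw [hdim, hw ζ (hζx.mem_open U.isOpen hxU) hmax]

/-- The component of a maximal point over a maximal point is equidimensional where the fibre dimension
is the one of its generic fibre. -/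
theorem exists_component_equidim {x ξ : X} (hξ : IsMaxPt ξ) (hξx : ξ ⤳ x) (hfξ : IsMaxPt (f ξ))
    (hd : FlatMor.fibreDimAt f x ≤ (trd f ξ : WithBot ℕ∞)) :
    ∃ W : Closeds X, (W : Set X) ∈ irreducibleComponents (X : Type u) ∧
      ∃ w : ↥((Scheme.IdealSheafData.vanishingIdeal W).subscheme),
        (Scheme.IdealSheafData.vanishingIdeal W).subschemeι.base w = x ∧
        EGA43.IsEquidimAt ((Scheme.IdealSheafData.vanishingIdeal W).subschemeι ≫ f) w := by
  let W : Closeds X := ⟨closure {ξ}, isClosed_closure⟩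
  let I := Scheme.IdealSheafData.vanishingIdeal W
  have hrange : Set.range I.subschemeι = closure {ξ} := by
    rw [Scheme.IdealSheafData.range_subschemeι]; rfl
  obtain ⟨w, hw⟩ : x ∈ Set.range I.subschemeι := by
    rw [hrange]; exact specializes_iff_mem_closure.1 hξx
  obtain ⟨v, hv⟩ : ξ ∈ Set.range I.subschemeι := by rw [hrange]; exact subset_closure rfl
  have hgen : ∀ z, v ⤳ z := fun z => by
    rw [← I.subschemeι.isEmbedding.isInducing.specializes_iff, hv, specializes_iff_mem_closure, ← hrange]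
    exact ⟨z, rfl⟩
  let g := I.subschemeι ≫ f
  have htr : ∀ z, trd g z = trd f (I.subschemeι z) := by
    intro z
    have h := (FlatDim.resTrdegAt_comp I.subschemeι f z).trans
      (by rw [FlatDim.resTrdegAt_preimmersion I.subschemeι z, add_zero])
    rw [resTrdegAt_eq_trd, resTrdegAt_eq_trd] at h
    exact_mod_cast h
  have hvd : trd g v = trd f ξ := by rw [htr, hv]
  let Uo : I.subscheme.Opens :=
    ⟨{z | FlatMor.fibreDimAt g z ≤ (trd f ξ : WithBot ℕ∞)}, FibreDepth.isOpen_fibreDimAt_le g _⟩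
  refine ⟨W, closure_mem_irreducibleComponents hξ, w, hw, trd f ξ, Uo,
    ?_, fun Z hZ => ?_, fun x' Z hZ => ?_⟩
  · refine OpenDim.fibreDimAt_le g fun z hz hzw => ?_
    rw [htr]
    refine le_trans (trd_le_fibreDimAt f ?_ (hw ▸ hzw.map I.subschemeι.continuous)) hd
    rw [← hw]; exact hz
  · obtain ⟨z, hzZ, hzmax⟩ := exists_generic_of_mem_irreducibleComponents (show Z ∈ irreducibleComponents ↥Uo.toScheme from hZ)
    refine ⟨closure {f ξ}, closure_mem_irreducibleComponents hfξ, ?_, ?_⟩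
    · show f (I.subschemeι w) ∈ _
      rw [hw]
      exact specializes_iff_mem_closure.1 (hξx.map f.continuous)
    · rw [← hzZ, closure_image_closure (Scheme.Hom.continuous _), Set.image_singleton]
      obtain ⟨v', hv'⟩ : v ∈ Set.range Uo.ι :=
        (hgen _).mem_open Uo.ι.isOpenEmbedding.isOpen_range ⟨z, rfl⟩
      have h1 := hzmax v' (Uo.ι.isOpenEmbedding.isInducing.specializes_iff.1 (hv'.symm ▸ hgen _))
      rw [← h1, Scheme.Hom.comp_apply, hv']
      show closure {f (I.subschemeι v)} = _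
      rw [hv]
  · obtain ⟨u, hfu, humax, hdim⟩ := point_of_component _ hZ
    rw [hdim]
    obtain ⟨t, ht0⟩ : ∃ t, t = trd (Uo.ι ≫ g) u := ⟨_, rfl⟩
    rw [← ht0]
    have ht : t = trd g (Uo.ι u) := ht0.trans (trd_ι' g u)
    have hmax : MaxInFibre g (Uo.ι u) := fun z hz hzu => by
      obtain ⟨z', rfl⟩ : z ∈ Set.range Uo.ι :=
        hzu.mem_open Uo.ι.isOpenEmbedding.isOpen_range ⟨u, rfl⟩
      rw [humax z' hz (Uo.ι.isOpenEmbedding.isInducing.specializes_iff.1 hzu)]
    have heq := fibreDimAt_eq_trd g hmax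
    have hle : t ≤ trd f ξ := by
      have h2 := heq.symm.trans_le u.2
      rw [ht]; exact_mod_cast h2
    have hge : trd f ξ ≤ t := by
      by_contra hlt
      have h3 : v ∈ {z | FlatMor.fibreDimAt g z ≤ (t : WithBot ℕ∞)} :=
        (hgen _).mem_open (FibreDepth.isOpen_fibreDimAt_le g _) (heq.le.trans_eq (by rw [← ht]))
      have h4 := (trd_le_fibreDimAt g rfl (specializes_refl v)).trans h3
      rw [hvd] at h4
      exact hlt (by exact_mod_cast h4)
    rw [le_antisymm hle hge]

/-- A universally open morphism lifts generizations of the base without losing transcendence degree. -/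
theorem exists_generization_trd [UniversallyOpen f] (ζ : X) {η : S} (hη : η ⤳ f ζ) :
    ∃ ω : X, f ω = η ∧ ω ⤳ ζ ∧ trd f ζ ≤ trd f ω := by
  obtain ⟨c⟩ := exists_chart f ζ
  obtain ⟨(p₀ : PrimeSpectrum c.A), rfl⟩ : η ∈ Set.range c.i :=
    hη.mem_open c.i.isOpenEmbedding.isOpen_range ⟨c.p, c.hp⟩
  have hp₀ : p₀.asIdeal ≤ c.q.asIdeal.comap (algebraMap c.A c.B) :=
    (PrimeSpectrum.le_iff_specializes p₀ c.p).2
      (c.i.isOpenEmbedding.isInducing.specializes_iff.1 (c.hp.symm ▸ hη))
  haveI h1 : UniversallyOpen (Spec.map (CommRingCat.ofHom (algebraMap c.A c.B))) := by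
    refine MorphismProperty.of_postcomp (W := @UniversallyOpen) (W' := @IsOpenImmersion) _ c.i inferInstance ?_
    rw [← c.w]
    infer_instance
  have hopen : ∀ (V : Type u) [CommRing V] [Algebra c.A V],
      IsOpenMap (PrimeSpectrum.comap (algebraMap V (V ⊗[c.A] c.B))) := by
    intro V _ _
    haveI : UniversallyOpen (pullback.fst (Spec.map (CommRingCat.ofHom (algebraMap c.A V)))
        (Spec.map (CommRingCat.ofHom (algebraMap c.A c.B)))) := MorphismProperty.pullback_fst _ _ h1
    have h2 : UniversallyOpen (Spec.map (CommRingCat.ofHom (algebraMap V (V ⊗[c.A] c.B)))) := by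
      rw [← pullbackSpecIso_inv_fst']
      infer_instance
    exact Scheme.Hom.isOpenMap (Spec.map (CommRingCat.ofHom (algebraMap V (V ⊗[c.A] c.B))))
  have ht := resTrdegAt_eq_trd f (c.j c.q)
  rw [c.resTrdegAt_eq] at ht
  let p : Ideal c.A := (PrimeSpectrum.comap (algebraMap c.A c.B) c.q).asIdeal
  haveI : FaithfulSMul (c.A ⧸ p) (c.B ⧸ c.q.asIdeal) :=
    (faithfulSMul_iff_algebraMap_injective _ _).2 (Ideal.quotientMap_injective' le_rfl)
  obtain ⟨ι, y, hy⟩ := exists_isTranscendenceBasis' (c.A ⧸ p) (c.B ⧸ c.q.asIdeal)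
  have hcard : Cardinal.mk ι = (trd f (c.j c.q) : Cardinal.{u}) := hy.cardinalMk_eq_trdeg.trans ht
  obtain ⟨n, hn⟩ : ∃ n, n = trd f (c.j c.q) := ⟨_, rfl⟩
  obtain ⟨e⟩ : Nonempty (Fin n ≃ ι) := by
    have : Cardinal.mk (ULift.{u} (Fin n)) = Cardinal.mk ι := by rw [hcard, Cardinal.mk_uLift, Cardinal.mk_fin, hn]; simp
    exact (Cardinal.eq.1 this).map fun e => Equiv.ulift.symm.trans e
  choose b hb using fun i => Ideal.Quotient.mk_surjective (y (e i))
  have hind : IndepAt (A := c.A) c.q.asIdeal b := by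
    intro F hF m
    have h0 : MvPolynomial.map (Ideal.Quotient.mk p) F = 0 := by
      refine (hy.1.comp e e.injective).eq_zero_of_aeval_eq_zero _ ?_
      have e1 : ((MvPolynomial.aeval (y ∘ e) : MvPolynomial (Fin n) (c.A ⧸ p) →ₐ[c.A ⧸ p] c.B ⧸ c.q.asIdeal)
          : MvPolynomial (Fin n) (c.A ⧸ p) →+* c.B ⧸ c.q.asIdeal).comp (MvPolynomial.map (Ideal.Quotient.mk p)) =
          (Ideal.Quotient.mk c.q.asIdeal).comp (MvPolynomial.aeval b : MvPolynomial (Fin n) c.A →ₐ[c.A] c.B).toRingHom := by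
        refine MvPolynomial.ringHom_ext (fun a => ?_) fun i => ?_
        · simp only [RingHom.comp_apply, MvPolynomial.map_C, AlgHom.toRingHom_eq_coe, RingHom.coe_coe, MvPolynomial.aeval_C]
          rfl
        · simp only [RingHom.comp_apply, MvPolynomial.map_X, AlgHom.toRingHom_eq_coe, RingHom.coe_coe, MvPolynomial.aeval_X]
          exact (hb i).symm
      exact (RingHom.congr_fun e1 F).trans (Ideal.Quotient.eq_zero_iff_mem.2 hF)
    refine Ideal.Quotient.eq_zero_iff_mem.1 ((MvPolynomial.coeff_map (Ideal.Quotient.mk p) F m).symm.trans ?_)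
    rw [h0, MvPolynomial.coeff_zero]
  obtain ⟨P₀, hP, hPq, hPp, hPind⟩ := exists_generization_indep hopen c.q.asIdeal p₀.asIdeal hp₀ b hind
  let P : PrimeSpectrum c.B := ⟨P₀, hP⟩
  refine ⟨c.j P, ?_, c.specializes hPq, ?_⟩
  · rw [c.apply_j]
    exact congrArg c.i (PrimeSpectrum.ext hPp)
  have hi : AlgebraicIndependent (c.A ⧸ (P.asIdeal.comap (algebraMap c.A c.B)))
      (fun i => Ideal.Quotient.mk P.asIdeal (b i)) := by
    rw [algebraicIndependent_iff]
    intro G hG
    obtain ⟨F, rfl⟩ := MvPolynomial.map_surjective (Ideal.Quotient.mk _) Ideal.Quotient.mk_surjective G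
    ext m
    rw [MvPolynomial.coeff_map, MvPolynomial.coeff_zero, Ideal.Quotient.eq_zero_iff_mem]
    refine hPind F (Ideal.Quotient.eq_zero_iff_mem.1 (Eq.trans ?_ hG)) m
    have e1 : (MvPolynomial.aeval (R := c.A ⧸ P.asIdeal.comap (algebraMap c.A c.B))
        fun i => Ideal.Quotient.mk P.asIdeal (b i)).toRingHom.comp (MvPolynomial.map (Ideal.Quotient.mk _)) =
        (Ideal.Quotient.mk P.asIdeal).comp (MvPolynomial.aeval b : MvPolynomial (Fin n) c.A →ₐ[c.A] c.B).toRingHom := by
      refine MvPolynomial.ringHom_ext (fun a => ?_) fun i => ?_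
      · simp only [RingHom.comp_apply, MvPolynomial.map_C, AlgHom.toRingHom_eq_coe, RingHom.coe_coe, MvPolynomial.aeval_C]
        rfl
      · simp only [RingHom.comp_apply, MvPolynomial.map_X, AlgHom.toRingHom_eq_coe, RingHom.coe_coe, MvPolynomial.aeval_X]
    exact (RingHom.congr_fun e1 F).symm
  haveI : Nontrivial (c.A ⧸ P.asIdeal.comap (algebraMap c.A c.B)) :=
    Ideal.Quotient.nontrivial_iff.2 (Ideal.IsPrime.comap _).ne_top
  have hle := hi.lift_cardinalMk_le_trdeg
  have ht2 : Algebra.trdeg (c.A ⧸ P.asIdeal.comap (algebraMap c.A c.B)) (c.B ⧸ P.asIdeal) = trd f (c.j P) :=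
    (c.resTrdegAt_eq P).symm.trans (resTrdegAt_eq_trd f (c.j P))
  rw [ht2, Cardinal.mk_fin, Cardinal.lift_natCast, Cardinal.lift_natCast, hn] at hle
  rw [c.hq] at hle
  exact_mod_cast hle

/-- Universally open morphisms: a component through each point is equidimensional there. -/
theorem exists_maxPt_of_universallyOpen [UniversallyOpen f] (x : X) :
    ∃ ξ : X, IsMaxPt ξ ∧ ξ ⤳ x ∧ IsMaxPt (f ξ) ∧ FlatMor.fibreDimAt f x ≤ (trd f ξ : WithBot ℕ∞) := by
  obtain ⟨ζ, hfζ, hζx, -, hdim⟩ := exists_maxInFibre_fibreDimAt f x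
  obtain ⟨η, hη, hηmax⟩ := DimFormulaLib.exists_maximal_point (f ζ)
  obtain ⟨ω, hfω, hωζ, hle⟩ := exists_generization_trd f ζ hη
  obtain ⟨ξ, hξω, hξmax⟩ := DimFormulaLib.exists_maximal_point ω
  have hfξ : f ξ = η := hηmax _ (hfω ▸ hξω.map f.continuous)
  refine ⟨ξ, hξmax, (hξω.trans hωζ).trans hζx, fun y hy => (hηmax y (hfξ ▸ hy)).trans hfξ.symm, ?_⟩
  rw [hdim]
  exact_mod_cast hle.trans (trd_le f hξω (hfξ.trans hfω.symm))

end Groth.Agent.CondTLib
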